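import Cfsg.Agent.Lib.J4Pres.Points
import Cfsg.Prelude.Def_Spor_J4

/-!
A group with a family of involutions indexed by the trios, compatible with a copy of the Mathieu
group, linear on lines and satisfying one commutator identity, receives the presented Janko group.
-/

set_option autoImplicit false

namespace Cfsg.Agent.J4Pres

open Cfsg
open scoped Pointwise

theorem conj_cube {G : Type*} [Group G] {a b : G} (h : a ^ 3 = 1) :
    (a * b) ^ 3 = (a * b * a⁻¹) * (a ^ 2 * b * (a ^ 2)⁻¹) * b := by
  have h' : a * a * a = 1 := by rw [← h, pow_succ, pow_two]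
  calc (a * b) ^ 3 = a * b * (a * b) * (a * b) := by rw [pow_succ, pow_two]
    _ = (a * b * a⁻¹) * (a * a * b * (a * a)⁻¹) * (a * a * a) * b := by group
    _ = _ := by rw [h', mul_one, pow_two]

theorem trios_smul (g : M24) {T : Finset (Finset GolayPt)} (hT : T ∈ trios) :
    (g : Equiv.Perm GolayPt) • T ∈ trios := by
  refine ⟨by rw [Finset.card_smul_finset]; exact hT.1, fun o ho => ?_, fun o ho o' ho' hne => ?_⟩
  · obtain ⟨a, ha, rfl⟩ := Finset.mem_smul_finset.1 ho
    exact Golay.smul_mem_octads g.2 (hT.2.1 a ha)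
  · obtain ⟨a, ha, rfl⟩ := Finset.mem_smul_finset.1 ho
    obtain ⟨b, hb, rfl⟩ := Finset.mem_smul_finset.1 ho'
    have hd := hT.2.2 a ha b hb fun e => hne (by rw [e])
    rw [Finset.disjoint_left] at hd ⊢
    intro p hp hp'
    obtain ⟨q, hq, rfl⟩ := Finset.mem_smul_finset.1 hp
    exact hd hq ((Finset.smul_mem_smul_finset_iff _).1 hp')

/-- Involutions indexed by trios over a homomorphism from the Mathieu group. -/
structure TrioSystem (G : Type*) [Group G] where
  /-- The copy of the Mathieu group. -/
  psi : M24 →* G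
  /-- The involution of a trio. -/
  t : Finset (Finset GolayPt) → G
  sq : ∀ T ∈ trios, t T * t T = 1
  smul : ∀ (g : M24), ∀ T ∈ trios, psi g * t T * (psi g)⁻¹ = t ((g : Equiv.Perm GolayPt) • T)
  line : ∀ T ∈ trios, ∀ T' ∈ trios, ∀ T'' ∈ trios, Line T T' T'' → t T * t T' = t T''
  last : ∀ g : M24, (g : Equiv.Perm GolayPt) = pFour * pFour →
    (t trioW * t trioU) ^ 2 = (psi g)⁻¹ * t trioZ

namespace TrioSystem

variable {G : Type*} [Group G] (S : TrioSystem G)

theorem inv_t {T : Finset (Finset GolayPt)} (hT : T ∈ trios) : (S.t T)⁻¹ = S.t T :=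
  inv_eq_of_mul_eq_one_right (S.sq T hT)

theorem comm_of_line {T T' T'' : Finset (Finset GolayPt)} (h : T ∈ trios) (h' : T' ∈ trios)
    (h'' : T'' ∈ trios) (hl : Line T T' T'') : S.t T * S.t T' = S.t T' * S.t T := by
  have e := S.line T h T' h' T'' h'' hl
  calc S.t T * S.t T' = (S.t T'')⁻¹ := by rw [S.inv_t h'', e]
    _ = S.t T' * S.t T := by rw [← e, mul_inv_rev, S.inv_t h, S.inv_t h']

theorem comm_of_fix (g : M24) {T : Finset (Finset GolayPt)} (hT : T ∈ trios)
    (hg : (g : Equiv.Perm GolayPt) • T = T) : S.psi g * S.t T = S.t T * S.psi g := by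
  have e := S.smul g T hT
  rw [hg] at e
  calc S.psi g * S.t T = S.psi g * S.t T * (S.psi g)⁻¹ * S.psi g := by group
    _ = _ := by rw [e]

/-- The conjugated word of the first long relator in the Mathieu group. -/
def gLine : M24 := gy * gx * gy⁻¹ * gx * gy * gx * gy⁻¹ * gx

/-- The element of order four in the Mathieu group. -/
def gFour : M24 := (gy * gx * gy * gx * gy * gx * gy) ^ 3

/-- The conjugator of the second long relator in the Mathieu group. -/
def gLast : M24 := (gx * gy) ^ 3 * gy * (gx * gy) ^ 6 * gy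

/-- The centralising word in the Mathieu group. -/
def gS : M24 := gy * gx * gy * ((gx * gy⁻¹) ^ 2) * ((gx * gy) ^ 3)

theorem rel_cent_x : (S.t trioW)⁻¹ * (S.psi gx)⁻¹ * S.t trioW * S.psi gx = 1 := by
  have e := S.comm_of_fix gx trioW_mem fix_W.1
  rw [mul_assoc _ (S.t trioW) (S.psi gx), ← e, mul_assoc, inv_mul_cancel_left, inv_mul_cancel]

theorem rel_cent_s : (S.t trioW)⁻¹ * (S.psi gS)⁻¹ * S.t trioW * S.psi gS = 1 := by
  have e := S.comm_of_fix gS trioW_mem fix_W.2.1
  rw [mul_assoc _ (S.t trioW) (S.psi gS), ← e, mul_assoc, inv_mul_cancel_left, inv_mul_cancel]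

theorem rel_line : (S.psi gy * ((S.psi gLine)⁻¹ * S.t trioW * S.psi gLine)) ^ 3 = 1 := by
  have e : (S.psi gLine)⁻¹ * S.t trioW * S.psi gLine = S.t trioT := by
    have h := S.smul gLine⁻¹ trioW trioW_mem
    rw [map_inv, inv_inv] at h
    rw [h]
    exact congrArg S.t line_T
  have hy3 : S.psi gy ^ 3 = 1 := by rw [← map_pow, rel_cube, map_one]
  have hy1 := trios_smul gy trioT_mem
  have hy2 := trios_smul (gy ^ 2) trioT_mem
  rw [e, conj_cube hy3, S.smul gy trioT trioT_mem, ← map_pow, S.smul (gy ^ 2) trioT trioT_mem,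
    S.line _ hy1 _ hy2 _ trioT_mem line_relator, S.sq trioT trioT_mem]

theorem rel_last :
    (S.psi gFour * S.t trioW * ((S.psi gLast)⁻¹ * S.t trioW * S.psi gLast)) ^ 2 = 1 := by
  have eU : (S.psi gLast)⁻¹ * S.t trioW * S.psi gLast = S.t trioU := by
    have h := S.smul gLast⁻¹ trioW trioW_mem
    rw [map_inv, inv_inv] at h
    rw [h]
    exact congrArg S.t last_U.1
  obtain ⟨-, hUV, hZ, hVU⟩ := last_U
  set a := S.psi gFour
  set w := S.t trioW
  set u := S.t trioU
  set z := S.t trioZ
  set v := S.t trioV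
  have haw : a * w = w * a := S.comm_of_fix gFour trioW_mem fix_W.2.2
  have hau : a * u = v * a := by
    have h := S.smul gFour trioU trioU_mem
    rw [show ((gFour : M24) : Equiv.Perm GolayPt) • trioU = trioV from hUV] at h
    calc a * u = a * u * a⁻¹ * a := by group
      _ = v * a := by rw [h]
  have hav : a * v = u * a := by
    have h := S.smul gFour trioV trioV_mem
    rw [show ((gFour : M24) : Equiv.Perm GolayPt) • trioV = trioU from hVU] at h
    calc a * v = a * v * a⁻¹ * a := by group
      _ = u * a := by rw [h]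
  have haz : a * z = z * a := S.comm_of_fix gFour trioZ_mem hZ
  have hline := S.line _ trioU_mem _ trioV_mem _ trioZ_mem line_UVZ
  have huz : u * v = z := hline
  have hwz : w * z = z * w := S.comm_of_line trioW_mem trioZ_mem trioWZ_mem line_WZ
  have hlast : (w * u) ^ 2 = (S.psi (gFour * gFour))⁻¹ * z := S.last (gFour * gFour) rfl
  rw [map_mul] at hlast
  have huu : u * u = 1 := S.sq _ trioU_mem
  have hzz : z * z = 1 := S.sq _ trioZ_mem
  have hv : v = z * u := by
    have : u * v = v * u := S.comm_of_line trioU_mem trioV_mem trioZ_mem line_UVZ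
    rw [← huz, this, mul_assoc, huu, mul_one]
  have haawu : a * a * (w * u) = w * u * (a * a) := by
    calc a * a * (w * u) = a * (a * w) * u := by group
      _ = a * (w * a) * u := by rw [haw]
      _ = (a * w) * (a * u) := by group
      _ = (w * a) * (v * a) := by rw [haw, hau]
      _ = w * (a * v) * a := by group
      _ = w * (u * a) * a := by rw [hav]
      _ = w * u * (a * a) := by group
  have haaz : a * a * z = z * (a * a) := by rw [mul_assoc, haz, ← mul_assoc, haz, mul_assoc]
  calc (a * w * ((S.psi gLast)⁻¹ * w * S.psi gLast)) ^ 2 = (a * w) * u * ((a * w) * u) := by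
        rw [eU, pow_two]
    _ = (w * a) * u * ((a * w) * u) := by rw [← haw]
    _ = w * (a * u) * (a * (w * u)) := by group
    _ = w * (v * a) * (a * (w * u)) := by rw [hau]
    _ = w * v * (a * a * (w * u)) := by group
    _ = w * v * (w * u * (a * a)) := by rw [haawu]
    _ = (w * z) * u * (w * u * (a * a)) := by rw [hv]; group
    _ = (z * w) * u * (w * u * (a * a)) := by rw [hwz]
    _ = z * ((w * u) * (w * u)) * (a * a) := by group
    _ = z * ((a * a)⁻¹ * z) * (a * a) := by rw [← pow_two, hlast]
    _ = z * ((a * a)⁻¹ * (z * (a * a))) := by group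
    _ = 1 := by rw [← haaz, inv_mul_cancel_left, hzz]

/-- The images of the three generators. -/
def genImage : Spor.J4.Gen → G
  | .x => S.psi gx
  | .y => S.psi gy
  | .t => S.t trioW

theorem relators_hold : ∀ r ∈ (Spor.coxRelators Spor.J4.edges ∪ {r | r ∈ Spor.J4.extra}),
    FreeGroup.lift S.genImage r = 1 := by
  rintro r (⟨a, hx, -⟩ | hr)
  · simp [Spor.coxNodes, Spor.J4.edges] at hx
  · simp only [Spor.J4.extra, Set.mem_ofPred_eq, List.mem_cons, List.not_mem_nil, or_false] at hr
    rcases hr with rfl | rfl | rfl | rfl | rfl | rfl | rfl | rfl | rfl | rfl | rfl | rfl <;>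
      simp only [map_mul, map_pow, map_inv, FreeGroup.lift_apply_of, genImage, Spor.J4.x,
        Spor.J4.y, Spor.J4.t]
    · rw [← map_pow, rel_sq, map_one]
    · rw [← map_pow, rel_cube, map_one]
    · rw [← map_mul, ← map_pow, rel_twentythree, map_one]
    · simp only [← map_inv, ← map_mul, ← map_pow]; rw [rel_twelve, map_one]
    · simp only [← map_inv, ← map_mul, ← map_pow]; rw [rel_five, map_one]
    · simp only [← map_inv, ← map_mul, ← map_pow]; rw [rel_six, map_one]
    · simp only [← map_inv, ← map_mul, ← map_pow]; rw [rel_seven, map_one]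
    · rw [pow_two, S.sq _ trioW_mem]
    · simpa only [gS, map_mul, map_pow, map_inv] using S.rel_cent_s
    · exact S.rel_cent_x
    · simpa only [gLine, map_mul, map_pow, map_inv] using S.rel_line
    · simpa only [gFour, gLast, map_mul, map_pow, map_inv] using S.rel_last

/-- **The presented group maps to every group with a trio system.** -/
def hom : Spor.J4 →* G := PresentedGroup.toGroup S.relators_hold

theorem psi_mem_range (g : M24) : S.psi g ∈ S.hom.range := by
  have hg : g ∈ Subgroup.closure {gx, gy} := by rw [closure_gx_gy]; trivial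
  revert hg
  refine fun hg => (Subgroup.closure_le ((S.hom.range).comap S.psi)).2 ?_ hg
  rintro x (rfl | rfl)
  · exact ⟨PresentedGroup.of Spor.J4.Gen.x, PresentedGroup.toGroup.of _⟩
  · exact ⟨PresentedGroup.of Spor.J4.Gen.y, PresentedGroup.toGroup.of _⟩

theorem t_mem_range : S.t trioW ∈ S.hom.range :=
  ⟨PresentedGroup.of Spor.J4.Gen.t, PresentedGroup.toGroup.of _⟩

theorem range_eq_top (h : ∀ H : Subgroup G, S.psi.range ≤ H → S.t trioW ∈ H → H = ⊤) :
    S.hom.range = ⊤ :=
  h _ (by rintro _ ⟨g, rfl⟩; exact S.psi_mem_range g) S.t_mem_range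

/-- **Recognition, given that the presented group is not larger.** -/
theorem iso_of_card_le [Finite Spor.J4] (h : ∀ H : Subgroup G, S.psi.range ≤ H → S.t trioW ∈ H → H = ⊤)
    (hcard : Nat.card Spor.J4 ≤ Nat.card G) : Spor.IsoJ4 G := by
  have hsurj : Function.Surjective S.hom := MonoidHom.range_eq_top.1 (S.range_eq_top h)
  exact ⟨(MulEquiv.ofBijective S.hom (hsurj.bijective_of_nat_card_le hcard)).symm⟩

end TrioSystem

end Cfsg.Agent.J4Pres
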