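import Cfsg.Agent.Lib.Golay.M24
import Cfsg.Prelude.Def_SporadicCombinatorics

/-!
The two permutations of the 24 points behind the presented fourth Janko group: the seven relators,
generation of the Mathieu group, and the trio configurations of the two translated relators.
-/

set_option autoImplicit false
set_option maxRecDepth 100000

namespace Cfsg.Agent.J4Pres

open Cfsg Cfsg.Agent.PermCert Cfsg.Agent.Golay
open scoped Pointwise symmDiff

/-- The code of the first generator. -/
def eltX : Elt := (100214687925038972864269207337098384, 100214687925038972864269207337098384)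

/-- The code of the second generator. -/
def eltY : Elt := (274751280267584717587480409647719467, 687546685596455361150818437971416110)

theorem elt_ok : (validElt 5 24 eltX && isAutB eltX && validElt 5 24 eltY && isAutB eltY) = true := by
  decide +kernel

/-- The first generator on the 24 points. -/
def px : Equiv.Perm GolayPt := permOf eltX

/-- The second generator on the 24 points. -/
def py : Equiv.Perm GolayPt := permOf eltY

theorem px_mem : px ∈ M24 := by
  have h := elt_ok
  simp only [Bool.and_eq_true] at h
  exact permOf_mem_M24 h.1.1.1 h.1.1.2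

theorem py_mem : py ∈ M24 := by
  have h := elt_ok
  simp only [Bool.and_eq_true] at h
  exact permOf_mem_M24 h.1.2 h.2

/-- The first generator in the Mathieu group. -/
def gx : M24 := ⟨px, px_mem⟩

/-- The second generator in the Mathieu group. -/
def gy : M24 := ⟨py, py_mem⟩

theorem rel_sq : gx ^ 2 = 1 := Subtype.ext (show px ^ 2 = 1 by decide +kernel)

theorem rel_cube : gy ^ 3 = 1 := Subtype.ext (show py ^ 3 = 1 by decide +kernel)

theorem rel_twentythree : (gx * gy) ^ 23 = 1 :=
  Subtype.ext (show (px * py) ^ 23 = 1 by decide +kernel)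

theorem rel_twelve : (gx⁻¹ * gy⁻¹ * gx * gy) ^ 12 = 1 :=
  Subtype.ext (show (px⁻¹ * py⁻¹ * px * py) ^ 12 = 1 by decide +kernel)

theorem rel_five : (gx⁻¹ * (gy * gx * gy)⁻¹ * gx * (gy * gx * gy)) ^ 5 = 1 :=
  Subtype.ext (show (px⁻¹ * (py * px * py)⁻¹ * px * (py * px * py)) ^ 5 = 1 by decide +kernel)

theorem rel_six : (gx * gy * ((gx * gy * gx * gy⁻¹) ^ 3)) ^ 4 = 1 :=
  Subtype.ext (show (px * py * ((px * py * px * py⁻¹) ^ 3)) ^ 4 = 1 by decide +kernel)

theorem rel_seven : ((gx * gy * gx * gy * gx * gy⁻¹) ^ 3) * ((gx * gy * gx * gy⁻¹ * gx * gy⁻¹) ^ 3) = 1 :=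
  Subtype.ext (show ((px * py * px * py * px * py⁻¹) ^ 3) * ((px * py * px * py⁻¹ * px * py⁻¹) ^ 3) = 1
    by decide +kernel)

/-! ### Generation -/

/-- Letters of a word: 0, 1, 2 stand for the first generator, the second and its inverse. -/
def letterVal (k : ℕ) : Equiv.Perm GolayPt := if k = 0 then px else if k = 1 then py else py⁻¹

/-- The value of a word. -/
def wordVal (w : List ℕ) : Equiv.Perm GolayPt := (w.map letterVal).prod

theorem wordVal_mem (w : List ℕ) : wordVal w ∈ Subgroup.closure {px, py} := by
  refine Subgroup.list_prod_mem _ fun g hg => ?_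
  obtain ⟨k, -, rfl⟩ := List.mem_map.1 hg
  have hx : px ∈ Subgroup.closure ({px, py} : Set (Equiv.Perm GolayPt)) := Subgroup.subset_closure (by simp)
  have hy : py ∈ Subgroup.closure ({px, py} : Set (Equiv.Perm GolayPt)) := Subgroup.subset_closure (by simp)
  unfold letterVal
  split_ifs
  exacts [hx, hy, inv_mem hy]

theorem genWord0 : permOf Cert.m24Gens[0] =
    wordVal [1, 0, 2, 0, 2, 0, 2, 0, 2, 0, 2, 0, 1, 0, 1, 0, 2, 0, 2, 0, 2, 0, 2, 0, 1, 0, 2, 0, 2, 0, 2, 0, 2, 0, 2, 0, 2, 0, 2, 0, 1, 0, 2, 0, 2, 0, 1, 0, 1, 0, 1, 0, 2, 0] := by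
  decide +kernel

theorem genWord1 : permOf Cert.m24Gens[1] =
    wordVal [1, 0, 1, 0, 2, 0, 2, 0, 2, 0, 2, 0, 2, 0, 1, 0, 2, 0, 1, 0, 2, 0, 2, 0, 2, 0, 1, 0, 1, 0, 2, 0, 1, 0, 1, 0, 1, 0, 2, 0, 1, 0, 1, 0, 1, 0, 2, 0, 2, 0, 2, 0] := by
  decide +kernel

theorem genWord2 : permOf Cert.m24Gens[2] =
    wordVal [0, 1, 0, 2, 0, 1, 0, 2, 0, 2, 0, 1, 0, 1, 0, 1, 0, 1, 0, 1, 0, 1, 0, 2, 0, 2, 0, 2, 0, 1, 0, 1, 0, 1, 0, 1, 0, 1, 0, 1, 0, 1, 0, 2, 0, 2, 0, 1, 0, 2] := by
  decide +kernel

theorem closure_pair : Subgroup.closure {px, py} = M24 := by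
  refine le_antisymm ((Subgroup.closure_le _).2 ?_) ?_
  · rintro σ (rfl | rfl)
    exacts [px_mem, py_mem]
  · conv_lhs => rw [← closure_gens, translation_eq, projInv_eq, cubeTwist_eq]
    refine (Subgroup.closure_le _).2 ?_
    rintro σ (rfl | rfl | rfl)
    · rw [genWord0]; exact wordVal_mem _
    · rw [genWord1]; exact wordVal_mem _
    · rw [genWord2]; exact wordVal_mem _

theorem closure_gx_gy : Subgroup.closure {gx, gy} = (⊤ : Subgroup M24) := by
  apply Subgroup.map_injective (f := M24.subtype) M24.subtype_injective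
  rw [MonoidHom.map_closure, ← MonoidHom.range_eq_map, Subgroup.range_subtype]
  refine Eq.trans ?_ closure_pair
  congr 1
  simp [gx, gy, Set.image_insert_eq]

/-! ### Configurations -/

/-- The trio fixed by the two elements centralising the third generator. -/
def trioW : Finset (Finset GolayPt) := {maskSet 3444840, maskSet 8922769, maskSet 4409606}

/-- The trio of the translated line relator. -/
def trioT : Finset (Finset GolayPt) := {maskSet 2268296, maskSet 6053905, maskSet 8455014}

/-- The trio of the last relator. -/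
def trioU : Finset (Finset GolayPt) := {maskSet 2687905, maskSet 4626498, maskSet 9462812}

/-- The image of that trio under the element of order four. -/
def trioV : Finset (Finset GolayPt) := {maskSet 10560816, maskSet 4626498, maskSet 1589901}

/-- The trio collinear with the last two. -/
def trioZ : Finset (Finset GolayPt) := {maskSet 8922769, maskSet 4626498, maskSet 3227948}

/-- The trio collinear with `trioW` and `trioZ`. -/
def trioWZ : Finset (Finset GolayPt) :=
  {maskSet 8922769, maskSet 7473194, maskSet 381252}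

/-- The element fixing the first trio, centralising the third generator. -/
def pS : Equiv.Perm GolayPt := py * px * py * ((px * py⁻¹) ^ 2) * ((px * py) ^ 3)

/-- The conjugator of the translated line relator. -/
def pLine : Equiv.Perm GolayPt := py * px * py⁻¹ * px * py * px * py⁻¹ * px

/-- The element of order four in the last relator. -/
def pFour : Equiv.Perm GolayPt := (py * px * py * px * py * px * py) ^ 3

/-- The conjugator of the last relator. -/
def pLast : Equiv.Perm GolayPt := (px * py) ^ 3 * py * (px * py) ^ 6 * py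

theorem fix_W : px • trioW = trioW ∧ pS • trioW = trioW ∧ pFour • trioW = trioW := by decide +kernel

theorem line_T : pLine⁻¹ • trioW = trioT := by decide +kernel

theorem last_U : pLast⁻¹ • trioW = trioU ∧ pFour • trioU = trioV ∧ pFour • trioZ = trioZ ∧
    pFour • trioV = trioU := by decide +kernel

/-- Collinear trios: a common octad, and the other octads add up. -/
def Line (T T' T'' : Finset (Finset GolayPt)) : Prop :=
  ∃ o a b a' b' : Finset GolayPt, T = {o, a, b} ∧ T' = {o, a', b'} ∧ T'' = {o, a ∆ a', a ∆ b'} ∧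
    a ≠ a' ∧ a ≠ b'

theorem mask_trio {a b c : ℕ}
    (h : [a, b, c].all (fun m => inCode m && Nat.beq (popCount m 24) 8) = true)
    (h3 : ({maskSet a, maskSet b, maskSet c} : Finset (Finset GolayPt)).card = 3)
    (hd : Disjoint (maskSet a) (maskSet b) ∧ Disjoint (maskSet a) (maskSet c) ∧
      Disjoint (maskSet b) (maskSet c)) :
    ({maskSet a, maskSet b, maskSet c} : Finset (Finset GolayPt)) ∈ trios := by
  simp only [List.all_cons, List.all_nil, Bool.and_eq_true, Bool.and_true, Nat.beq_eq] at h
  have ho : ∀ m, inCode m = true → popCount m 24 = 8 → maskSet m ∈ octads := fun m h1 h2 =>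
    mem_octads.2 ⟨m, mem_octadList.2 ⟨inCode_iff.1 h1, h2⟩, rfl⟩
  obtain ⟨⟨a1, a2⟩, ⟨b1, b2⟩, c1, c2⟩ := h
  refine ⟨h3, fun o hm => ?_, fun o hm o' hm' hne => ?_⟩
  · simp only [Finset.mem_insert, Finset.mem_singleton] at hm
    rcases hm with rfl | rfl | rfl
    exacts [ho a a1 a2, ho b b1 b2, ho c c1 c2]
  · simp only [Finset.mem_insert, Finset.mem_singleton] at hm hm'
    rcases hm with rfl | rfl | rfl <;> rcases hm' with rfl | rfl | rfl
    exacts [absurd rfl hne, hd.1, hd.2.1, hd.1.symm, absurd rfl hne, hd.2.2, hd.2.1.symm,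
      hd.2.2.symm, absurd rfl hne]

theorem trioW_mem : trioW ∈ trios := mask_trio (by decide +kernel) (by decide +kernel) (by decide +kernel)

theorem trioT_mem : trioT ∈ trios := mask_trio (by decide +kernel) (by decide +kernel) (by decide +kernel)

theorem trioU_mem : trioU ∈ trios := mask_trio (by decide +kernel) (by decide +kernel) (by decide +kernel)

theorem trioV_mem : trioV ∈ trios := mask_trio (by decide +kernel) (by decide +kernel) (by decide +kernel)

theorem trioZ_mem : trioZ ∈ trios := mask_trio (by decide +kernel) (by decide +kernel) (by decide +kernel)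

theorem trioWZ_mem : trioWZ ∈ trios := mask_trio (by decide +kernel) (by decide +kernel) (by decide +kernel)

theorem line_relator : Line (py • trioT) (py ^ 2 • trioT) trioT :=
  ⟨maskSet 8455014, maskSet 7397512, maskSet 924689, maskSet 5405696, maskSet 2916505,
    by decide +kernel, by decide +kernel, by decide +kernel, by decide +kernel, by decide +kernel⟩

theorem line_UVZ : Line trioU trioV trioZ :=
  ⟨maskSet 4626498, maskSet 2687905, maskSet 9462812, maskSet 10560816, maskSet 1589901,
    by decide +kernel, by decide +kernel, by decide +kernel, by decide +kernel, by decide +kernel⟩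

theorem line_WZ : Line trioW trioZ trioWZ :=
  ⟨maskSet 8922769, maskSet 3444840, maskSet 4409606, maskSet 4626498, maskSet 3227948,
    by decide +kernel, by decide +kernel, by decide +kernel, by decide +kernel, by decide +kernel⟩

end Cfsg.Agent.J4Pres
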